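import Cfsg.Agent.GW.Perfect
import Cfsg.Agent.GWQuasi.Core
import Cfsg.Agent.TwoGroupsQ.UniqueInvolution
import Cfsg.Prelude.Def_SporadicB

/-!
# Perfect groups of 2-rank one, modulo the odd core

Under the Gorenstein–Walter hypothesis such a group is `SL₂(q)`, `q > 3` odd, or a double cover
of `A₇`.
-/

set_option autoImplicit false
set_option linter.style.haveILetI false

namespace CfsgLib.PerfectRankOne

open Subgroup Matrix

universe u

variable {X : Type u} [Group X] [Finite X]

/-- A 2-group of 2-rank one has only one involution. -/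
theorem hasUniqueOrderP_of_rank_one (h : Cfsg.PRankLE 2 1 X) (S : Sylow 2 X) :
    TwoGroupsQ.HasUniqueOrderP (S : Subgroup X) 2 := by
  haveI : Fact (Nat.Prime 2) := ⟨Nat.prime_two⟩
  -- commuting involutions coincide
  have hcomm : ∀ x y : X, x * x = 1 → y * y = 1 → x * y = y * x → x ≠ 1 → y ≠ 1 → x = y := by
    intro x y hx hy hxy hx1 hy1
    by_contra hne
    let A : Subgroup X := closure {x, y}
    haveI : IsMulCommutative A := by
      refine isMulCommutative_closure ?_
      rintro a ha b hb
      rcases ha with rfl | rfl <;> rcases hb with rfl | rfl <;> first | rfl | exact hxy | exact hxy.symm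
    have hsq : ∀ a ∈ A, a ^ 2 = 1 := by
      intro a ha
      induction ha using closure_induction with
      | mem a ha => rcases ha with rfl | rfl <;> simpa [sq]
      | one => exact one_pow _
      | mul a b ha' hb' iha ihb =>
        have hc : Commute a b := congrArg Subtype.val (mul_comm' (⟨a, ha'⟩ : A) ⟨b, hb'⟩)
        rw [hc.mul_pow, iha, ihb, one_mul]
      | inv a _ iha => rw [inv_pow, iha, inv_one]
    have hle := h A inferInstance hsq
    have h3 : Nat.card (Fin 3) ≤ Nat.card A := by
      refine Nat.card_le_card_of_injective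
        ![(1 : A), ⟨x, subset_closure (Set.mem_insert _ _)⟩,
          ⟨y, subset_closure (Set.mem_insert_of_mem _ rfl)⟩] ?_
      intro i j hij
      have hij' := congrArg Subtype.val hij
      fin_cases i <;> fin_cases j <;>
        first
          | rfl
          | exact absurd hij' hx1
          | exact absurd hij'.symm hx1
          | exact absurd hij' hy1
          | exact absurd hij'.symm hy1
          | exact absurd hij' hne
          | exact absurd hij'.symm hne
    rw [Nat.card_eq_fintype_card, Fintype.card_fin] at h3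
    omega
  refine TwoGroupsQ.hasUniqueOrderP_two fun x y hx hx1 hy hy1 => ?_
  haveI : Nontrivial (S : Subgroup X) := ⟨x, 1, hx1⟩
  haveI := S.isPGroup'.center_nontrivial
  have hdvd : 2 ∣ Nat.card (center (S : Subgroup X)) := by
    obtain ⟨k, hk0, hk⟩ := ((S.isPGroup'.to_subgroup _).nontrivial_iff_card).1
      (inferInstance : Nontrivial (center (S : Subgroup X)))
    exact hk ▸ dvd_pow_self 2 (by omega)
  obtain ⟨z, hz⟩ := exists_prime_orderOf_dvd_card' (G := center (S : Subgroup X)) 2 hdvd
  have hz1 : ((z : (S : Subgroup X)) : X) ≠ 1 := fun e => by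
    have : z = 1 := Subtype.ext (Subtype.ext e)
    rw [this, orderOf_one] at hz
    omega
  have hzz : ((z : (S : Subgroup X)) : X) * ((z : (S : Subgroup X)) : X) = 1 := by
    have h := pow_orderOf_eq_one z
    rw [hz, sq] at h
    exact congrArg (fun w : center (S : Subgroup X) => ((w : (S : Subgroup X)) : X)) h
  have key : ∀ w : (S : Subgroup X), w ^ 2 = 1 → w ≠ 1 → (w : X) = ((z : (S : Subgroup X)) : X) :=
    fun w hw hw1 => hcomm _ _ (by rw [← sq, ← SubmonoidClass.coe_pow, hw, coe_one]) hzz
      (congrArg Subtype.val (Subgroup.mem_center_iff.1 z.2 w))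
      (fun e => hw1 (Subtype.ext e)) hz1
  exact Subtype.ext ((key x hx hx1).trans (key y hy hy1).symm)

/-- A perfect group has no subgroup of index two. -/
theorem no_index_two {G : Type*} [Group G] [Group.IsPerfect G] (M : Subgroup G) : M.index ≠ 2 := by
  intro hM
  haveI := normal_of_index_eq_two hM
  haveI : IsCyclic (G ⧸ M) := isCyclic_of_prime_card (p := 2) (by rw [← index_eq_card, hM])
  letI : CommGroup (G ⧸ M) := IsCyclic.commGroup
  haveI : Group.IsSolvable (G ⧸ M) := Group.isSolvable_of_comm fun a b => mul_comm a b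
  have htop : M = ⊤ := by
    rw [Subgroup.eq_top_iff']
    intro g
    rw [← QuotientGroup.eq_one_iff]
    exact GW.eq_one_of_perfect (QuotientGroup.mk' M) g
  rw [htop, index_top] at hM
  omega

/-- The theorem, from the simple case of Gorenstein–Walter. -/
theorem of_simpleHyp (hGW : ∀ m, GW.SimpleHyp.{u} m) [Group.IsPerfect X]
    (h1 : Cfsg.PRankLE 2 1 X) (h2 : Even (Nat.card X)) :
    (∃ (F : Type) (_ : Field F) (_ : Fintype F), Odd (Fintype.card F) ∧ 3 < Fintype.card F ∧
        Nonempty (X ⧸ Cfsg.oddCore X ≃* SpecialLinearGroup (Fin 2) F)) ∨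
      Cfsg.IsNonsplitDoubleCover (X ⧸ Cfsg.oddCore X) ↥(alternatingGroup (Fin 7)) := by
  classical
  haveI : Fact (Nat.Prime 2) := ⟨Nat.prime_two⟩
  set Q := X ⧸ Cfsg.oddCore X with hQ
  haveI : Group.IsPerfect Q := Group.IsPerfect.ofSurjective (f := QuotientGroup.mk' (Cfsg.oddCore X))
    (QuotientGroup.mk'_surjective _)
  have hO : Cfsg.oddCore Q = ⊥ := CfsgLib.PLocal.pPrimeCore_quotient_pPrimeCore_eq_bot 2 X
  let S : Sylow 2 X := default
  let T : Sylow 2 Q := S.mapSurjective (QuotientGroup.mk'_surjective (Cfsg.oddCore X))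
  let f := (QuotientGroup.mk' (Cfsg.oddCore X)).subgroupMap (S : Subgroup X)
  have hf : Function.Injective f := by
    rw [injective_iff_map_eq_one]
    intro s hs
    have hmem : (s : X) ∈ Cfsg.oddCore X :=
      (QuotientGroup.eq_one_iff _).1 (congrArg Subtype.val hs)
    obtain ⟨k, hk⟩ := S.isPGroup' s
    have h1' : orderOf (s : X) ∣ Nat.card (Cfsg.oddCore X) := Subgroup.orderOf_dvd_natCard _ hmem
    have h2' : orderOf (s : X) ∣ 2 ^ k :=
      orderOf_dvd_of_pow_eq_one (by rw [← SubmonoidClass.coe_pow, hk, coe_one])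
    refine Subtype.ext (orderOf_eq_one_iff.1 (Nat.dvd_one.1 ?_))
    rw [← ((Nat.coprime_two_right.2 (CfsgLib.Inv54.odd_card_oddCore (G := X))).pow_right k).gcd_eq_one]
    exact Nat.dvd_gcd h1' h2'
  let eT : (T : Subgroup Q) ≃* (S : Subgroup X) :=
    ((MulEquiv.subgroupCongr (Sylow.coe_mapSurjective (QuotientGroup.mk'_surjective _) S)).trans
      (MulEquiv.ofBijective f ⟨hf, (QuotientGroup.mk' _).subgroupMap_surjective _⟩).symm)
  rcases TwoGroupsQ.isCyclic_or_quaternion S.isPGroup' (hasUniqueOrderP_of_rank_one h1 S) with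
    hcyc | ⟨-, m, hm, ⟨e⟩⟩
  · exfalso
    haveI := hcyc
    haveI : IsCyclic (T : Subgroup Q) := isCyclic_of_surjective eT.symm eT.symm.surjective
    have hp := GW.isPGroup_of_cyclic_sylow T inferInstance hO
    haveI : Group.IsNilpotent Q := hp.isNilpotent
    have hsub : ∀ q : Q, q = 1 := fun q => GW.eq_one_of_perfect (MonoidHom.id Q) q
    have htop : Cfsg.oddCore X = ⊤ := by
      rw [Subgroup.eq_top_iff']
      exact fun x => (QuotientGroup.eq_one_iff x).1 (hsub x)
    have hodd := CfsgLib.Inv54.odd_card_oddCore (G := X)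
    rw [htop, card_top] at hodd
    exact Nat.not_even_iff_odd.2 hodd h2
  have eQ : (T : Subgroup Q) ≃* QuaternionGroup (2 ^ m) := eT.trans e
  haveI : NeZero (2 ^ m) := ⟨by positivity⟩
  have hZ := GWQuasi.card_center_eq_two T hm eQ hO
  -- the Sylow subgroups of the central quotient are dihedral
  let P := T.mapSurjective (QuotientGroup.mk'_surjective (center Q))
  let fP := (QuotientGroup.mk' (center Q)).subgroupMap (T : Subgroup Q)
  let g := (CfsgLib.FusionMetaSuper.quatToDihedral (2 ^ m)).comp eQ.toMonoidHom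
  have hker : fP.ker = g.ker := by
    ext x
    simp only [g, MonoidHom.mem_ker, MonoidHom.comp_apply]
    rw [← MonoidHom.mem_ker (f := CfsgLib.FusionMetaSuper.quatToDihedral _),
      CfsgLib.FusionMetaSuper.mem_ker_quatToDihedral]
    have h1' : fP x = 1 ↔ (x : Q) ∈ center Q := by
      rw [← QuotientGroup.eq_one_iff]
      exact ⟨fun h => congrArg Subtype.val h, fun h => Subtype.ext h⟩
    rw [h1', MulEquiv.coe_toMonoidHom, ← map_pow, MulEquiv.map_eq_one_iff]
    refine ⟨fun h => Subtype.ext (by rw [Subgroup.coe_pow, sq]; exact GWQuasi.center_sq hZ h),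
      fun h => GWQuasi.mem_center_of_sq T eQ hZ ?_⟩
    rw [← sq, ← Subgroup.coe_pow, h, coe_one]
  let iso := ((QuotientGroup.quotientKerEquivOfSurjective fP
    ((QuotientGroup.mk' (center Q)).subgroupMap_surjective _)).symm.trans
    (QuotientGroup.quotientMulEquivOfEq hker)).trans
    (QuotientGroup.quotientKerEquivOfSurjective g
      ((CfsgLib.FusionMetaSuper.quatToDihedral_surjective _).comp eQ.surjective))
  have hP : Nonempty ((P : Subgroup (Q ⧸ center Q)) ≃* DihedralGroup (2 ^ m)) :=
    ⟨(MulEquiv.subgroupCongr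
      (Sylow.coe_mapSurjective (QuotientGroup.mk'_surjective (center Q)) T)).trans iso⟩
  haveI : Group.IsPerfect (Q ⧸ center Q) := Group.IsPerfect.ofSurjective
    (f := QuotientGroup.mk' (center Q)) (QuotientGroup.mk'_surjective _)
  have hOZ : Cfsg.oddCore (Q ⧸ center Q) = ⊥ :=
    GWQuasi.oddCore_quotient_eq_bot hO (center Q) le_rfl hZ
  let eZ : (Q ⧸ center Q) ⧸ Cfsg.oddCore (Q ⧸ center Q) ≃* Q ⧸ center Q :=
    (QuotientGroup.quotientMulEquivOfEq hOZ).trans QuotientGroup.quotientBot
  have h2m : 2 ≤ 2 ^ m := (pow_one 2).symm.le.trans (Nat.pow_le_pow_right two_pos hm)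
  rcases GW.perfect_of_simpleHyp P (2 ^ m) h2m hP (hGW _) with
    ⟨F, iF, iT, hodd, h3, ⟨eF⟩⟩ | ⟨⟨eA⟩⟩
  · refine Or.inl ⟨F, iF, iT, hodd, h3, ?_⟩
    let π : Q →* ProjectiveSpecialLinearGroup (Fin 2) F :=
      (eZ.symm.trans eF).toMonoidHom.comp (QuotientGroup.mk' (center Q))
    have hk : π.ker = center Q := by
      ext x
      simp [π]
    exact GWQuasi.nonempty_equiv_sl2 hodd π
      ((eZ.symm.trans eF).surjective.comp (QuotientGroup.mk'_surjective _))
      (hk.symm ▸ hZ) no_index_two
  · refine Or.inr ⟨hZ, ⟨eZ.symm.trans eA⟩, fun L hL => no_index_two L ?_⟩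
    rw [hL.index_eq_card, hZ]

end CfsgLib.PerfectRankOne
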